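import Cfsg.Agent.Ts.U3

/-! Alias of the renamed copy. -/
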