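import Cfsg.Agent.Ms.Z

/-! Sylow 2-subgroups of type `L₄(5)`: the list with `McL` up to isomorphism. -/

set_option autoImplicit false
set_option linter.unusedSectionVars false
set_option maxHeartbeats 400000
set_option maxRecDepth 100000
set_option synthInstance.maxSize 2000

namespace CF.Ts.JM
open Subgroup Cfsg CF.BG CF.Sig CF.GW CF.Ab2 CF.Wg CF.Ms
open CF.W2 (SM Cj Dz uniq eq_iff tr cj_sq cj_ne mem_c1' map_sq map_ne norm_map_of move barz hz_barz mem_oc)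
open CF.LyS (cj_com)
open CF.Transfer (pRes)
open Qm (al be zz qt)
open scoped MatrixGroups commutatorElement

universe u

/-- the conclusion -/
def Cn (G : Type*) [Group G] : Prop := LU G ∨ Nonempty (G ≃* alternatingGroup (Fin 10)) ∨
  Nonempty (G ≃* alternatingGroup (Fin 11)) ∨ IsM22 G ∨ IsM23 G ∨ Spor.IsoMcL G

section
variable {G : Type u} [Group G] [Finite G] {φ : Y →* G} {g y : G} {t d : Y}
open CF.Ms.Sb

theorem out_cn (d : 128 ∣ Nat.card G) (s : ∀ t : G, orderOf t = 2 → Sol (𝐂₁ t)) (h : XT.Out G) : Cn G := by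
  have J : ∀ {X : Type} [Group X] (_ : G ≃* X) (t : X), orderOf t = 2 → (Cod.El J23.TH ≃* 𝐂₁ t) → False := by
    intro X _ e t o f
    obtain ⟨Q, n, -, -, -, -, ⟨q⟩, -⟩ := Comp.HCen.shape f
    have k := (s (e.symm t) (by rwa [MulEquiv.orderOf_eq])).map e.toMonoidHom
    have l : 𝐂₁ t ≤ (𝐂₁ (e.symm t)).map e.toMonoidHom := fun x hx => ⟨e.symm x, mem_cent1.2 (by
      rw [← map_mul, mem_cent1.1 hx, map_mul]), by simp⟩
    haveI := k.mono l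
    exact Classical.not_isSolvable_A5 (Group.isSolvable_of_surjective (f := q.toMonoidHom) q.surjective)
  rcases h with ⟨F, _, _, c, ⟨⟨e⟩⟩ | e⟩ | ⟨F, _, _, c, ⟨e⟩⟩ | ⟨F, _, _, c, e | ⟨⟨e⟩⟩⟩ | ⟨⟨e⟩⟩ | ⟨⟨e⟩⟩ | ⟨⟨e⟩⟩ | ⟨⟨e⟩⟩ |
    ⟨F, _, _, w, c, hw, ⟨e⟩⟩
  · have k := CF.Comp.card_PSU_mul (K := F) (q := 3) (d := 3) c (by decide)
    rw [Nat.card_congr e.toEquiv] at d
    rw [show Nat.gcd 3 (3 + 1) = 1 from rfl, show (3 : ℕ) ^ (3 * (3 - 1) / 2) * _ = 24192 by decide +kernel] at k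
    omega
  · exact .inl (.inr ⟨F, _, _, 3, c, by decide, e⟩)
  · have k := CF.Comp.card_PSU_mul (K := F) (q := 2) (d := 4) c (by decide)
    rw [Nat.card_congr e.toEquiv] at d
    rw [show Nat.gcd 4 (2 + 1) = 1 from rfl, show (2 : ℕ) ^ (4 * (4 - 1) / 2) * _ = 77760 by decide +kernel] at k
    omega
  · exact .inl (.inl ⟨F, _, _, by rw [c]; decide, e⟩)
  · rw [Nat.card_congr e.toEquiv, Chev.cardG2 F (Nat.card_eq_fintype_card.trans c)] at d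
    exact absurd d (by decide)
  · rw [Nat.card_congr e.toEquiv, nat_card_alternatingGroup, Nat.card_eq_fintype_card, Fintype.card_fin] at d
    exact absurd d (by decide)
  · rw [Nat.card_congr e.toEquiv, nat_card_alternatingGroup, Nat.card_eq_fintype_card, Fintype.card_fin] at d
    exact absurd d (by decide)
  · rw [Nat.card_congr e.toEquiv, CF.Comp.Mat.card_M12] at d
    exact absurd d (by decide)
  · exact let ⟨o, ⟨f⟩⟩ := Comp.J2.cent; (J e _ o f).elim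
  · exact let ⟨o, ⟨f⟩⟩ := Comp.J3.cent (Comp.J3.ok c hw); (J e _ o f).elim

theorem main [IsSimpleGroup G] (h : F0 φ) (res : ∀ t, φ t ∈ pRes 2 (𝐂₁ (φ Y.j)) ↔ t ∈ Y.k.range)
    (s : Sol (𝐂₁ (φ Y.j))) (hV : ∀ y ∈ pRes 2 (𝐂₁ (φ Y.j)), ∀ a, v1 a → ∃ d, v1 d ∧ Cj φ y a d)
    (hE : ∀ i, 𝐂₁ (φ Y.j) ≤ 𝐍 ((Y.E i).map φ ⊔ Oc 2 (φ Y.j)) → Cn G) : Cn G := by
  have o := oc_bot h s
  have l : ∀ a, φ a ∈ 𝐂₁ (φ Y.j) := fun a => mem_c1' (Y.cj a)
  have sM := h.syl.of_le (fun _ ⟨a, e⟩ => e ▸ l a) le_top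
  have nL := GW.pRes_normal (𝐂₁ (φ Y.j))
  have nQ : 𝐂₁ (φ Y.j) ≤ 𝐍 (Y.k.range.map φ) := le_of h.toSM (fun y hy => norm_map_of fun t m => by
      obtain ⟨u, h1, h2⟩ := (by decide +kernel : ∀ t ∈ Y.k.range, ∃ u, v1 u ∧ v1 (Y.n * (u⁻¹ * t) * Y.n⁻¹)) t m
      obtain ⟨d1, k1, e1⟩ := hV y hy u h1
      obtain ⟨d2, k2, e2⟩ := hV _ (nL.conj_mem (l Y.n) hy) _ h2
      have e3 := ((Cj.of Y.n _).comp e2).comp (Cj.of Y.n⁻¹ d2)
      rw [show φ Y.n⁻¹ * (φ Y.n * y * (φ Y.n)⁻¹ * φ Y.n) = y by simp] at e3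
      exact ⟨_, (by decide +kernel : ∀ a, v1 a → ∀ b, v1 b → a * (Y.n⁻¹ * b * Y.n⁻¹⁻¹) ∈ Y.k.range) d1 k1 d2 k2,
        (e1.mul e3).cast (mul_inv_cancel_left _ _) rfl⟩)
    fun a => norm_map_of fun t m => ⟨_, (by decide +kernel : ∀ a, ∀ t ∈ Y.k.range, a * t * a⁻¹ ∈ Y.k.range) a t m,
      .of a t⟩
  have QR : Y.k.range.map φ ≤ 𝐎 {2} (𝐂₁ (φ Y.j)) := le_O ⟨fun _ ⟨a, _, e⟩ => e ▸ l a, nQ⟩ (h.pi _)
  have RS := sM.le_of_normal (O_normal {2} _) (O_pi _ _)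
  have act : ∀ y ∈ pRes 2 (𝐂₁ (φ Y.j)), ∀ t, φ t ∈ 𝐎 {2} (𝐂₁ (φ Y.j)) → ∃ d, t⁻¹ * d ∈ Y.k.range ∧ Cj φ y t d :=
    fun y hy t m => by
    obtain ⟨d, e⟩ := RS ((O_normal _ _).conj_mem (nL.le hy) m)
    refine ⟨d, (res _).1 ?_, e.symm⟩
    rw [map_mul, map_inv, e]
    exact Transfer.inv_mul_conj_mem_pRes (l t) hy
  by_cases hu : ∃ i, φ (ui i) ∈ 𝐎 {2} (𝐂₁ (φ Y.j))
  · obtain ⟨i, m⟩ := hu
    refine hE i ?_
    rw [o, sup_bot_eq]
    refine le_of h.toSM (fun y hy => ?_) fun a => norm_map_of fun t m => ⟨_, Y.nor_E i a t m, .of a t⟩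
    have k : ∀ t ∈ Y.E i, t ∉ Y.k.range → ∃ d ∈ Y.E i, Cj φ y t d := fun t m1 m2 => by
      obtain ⟨d, e1, e2⟩ := act y hy t ((mul_mem_cancel_left (inv_mem m)).1 (QR ⟨_, (by decide +kernel :
        ∀ i, ∀ t ∈ Y.E i, t ∉ Y.k.range → (ui i)⁻¹ * t ∈ Y.k.range) i t m1 m2, by simp⟩))
      exact ⟨d, (by decide +kernel : ∀ i, ∀ t ∈ Y.E i, t ∉ Y.k.range → ∀ d, d * d = 1 → t⁻¹ * d ∈ Y.k.range → d ∈ Y.E i)
        i t m1 m2 d ((cj_sq h.inj e2).1 (Y.sq_E i t m1)) e1, e2⟩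
    refine norm_map_of fun t m => ?_
    by_cases q : t ∈ Y.k.range
    swap
    · exact k t m q
    obtain ⟨k1, k2, k3, k4, k5⟩ := (by decide +kernel : ∀ i, ∀ t ∈ Y.E i, t ∈ Y.k.range → t * ui i ∈ Y.E i ∧
      t * ui i ∉ Y.k.range ∧ ui i ∈ Y.E i ∧ ui i ∉ Y.k.range ∧ t * ui i * ui i = t) i t m q
    obtain ⟨d1, m1, e1⟩ := k _ k1 k2
    obtain ⟨d2, m2, e2⟩ := k _ k3 k4
    exact ⟨_, mul_mem m1 m2, (e1.mul e2).cast k5 rfl⟩
  have ne : φ Y.e ∉ 𝐎 {2} (𝐂₁ (φ Y.j)) := fun m => by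
    have : pRes 2 (𝐂₁ (φ Y.j)) ≤ 𝐂₁ (φ aa) ⊓ 𝐂₁ (φ bb) := Transfer.pRes_le_iff.2 fun y hy o => by
      have hy' := Transfer.mem_pRes_of_coprime hy o
      have e0 : Cj φ y Y.j Y.j := .of_comm (mem_cent1.1 hy)
      obtain ⟨a, a1, e1⟩ := hV y hy' aa (by decide +kernel)
      obtain ⟨b, b1, e2⟩ := hV y hy' bb (by decide +kernel)
      obtain ⟨c, c1, e3⟩ := act y hy' _ m
      have e4 : Cj φ y aa aa := .of_comm (mem_cent1.1 (odd_mem o (mem_cent1.2 (Cj.comm (by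
        rcases (by decide +kernel : ∀ a, v1 a → a * a ≠ 1 → ∀ c, Y.e⁻¹ * c ∈ Y.k.range → a * c = c * a →
          a = aa ∨ a = aa * Y.j) a a1 (mt (cj_sq h.inj e1).2 (by decide +kernel)) c c1
          ((cj_com h.toSM e1 e3).1 (by decide +kernel)) with rfl | rfl
        exacts [e1.comp e1, (e1.comp (e1.mul e0)).cast rfl (by decide +kernel)])))))
      refine ⟨mem_cent1.2 e4.comm, odd_mem o (odd_mem (H := 𝐂₁ (φ bb)) (by
        rw [← sq]; exact Nat.Coprime.coprime_dvd_left (orderOf_pow_dvd 2) o) (mem_cent1.2 (Cj.comm ?_)))⟩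
      have key : ∀ {u}, Cj φ y u u → u * u * (u * u) = 1 → Cj φ y bb (u * bb) → Cj φ (y * y * (y * y)) bb bb :=
        fun {u} f q e => by
        have e' := e.comp (f.mul e)
        exact (e'.comp (((f.comp f).mul (f.comp f)).mul e' |>.cast (mul_assoc _ _ _) rfl)).cast rfl (by
          rw [← mul_assoc, ← mul_assoc, mul_assoc (u * u), q, one_mul])
      rcases (by decide +kernel : ∀ b, v1 b → aa * b ≠ b * aa → b = 1 * bb ∨ b = Y.j * bb ∨ b = aa * bb ∨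
        b = aa * Y.j * bb) b b1 (mt (cj_com h.toSM e4 e2).2 (by decide +kernel)) with rfl | rfl | rfl | rfl
      exacts [key (.one y) (by simp) e2, key e0 (by decide +kernel) e2, key e4 (by decide +kernel) e2,
        key (e4.mul e0) (by decide +kernel) e2]
    have := mem_cent1.1 (this ((res aa).2 (by decide +kernel))).2
    rw [← map_mul, ← map_mul] at this
    exact absurd (h.inj this) (by decide +kernel)
  have RQ : 𝐎 {2} (𝐂₁ (φ Y.j)) ≤ Y.k.range.map φ := fun x hx => by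
    obtain ⟨t, rfl⟩ := RS hx
    have k : ∀ {u}, t⁻¹ * u ∈ Y.k.range → φ u ∈ 𝐎 {2} (𝐂₁ (φ Y.j)) := fun m =>
      (mul_mem_cancel_left (inv_mem hx)).1 (QR ⟨_, m, by simp⟩)
    rcases (by decide +kernel : ∀ t, t ∈ Y.k.range ∨ t⁻¹ * ui false ∈ Y.k.range ∨ t⁻¹ * ui true ∈ Y.k.range ∨
      t⁻¹ * Y.e ∈ Y.k.range) t with m | m | m | m
    exacts [mem_map_of_mem φ m, absurd ⟨_, k m⟩ hu, absurd ⟨_, k m⟩ hu, absurd (k m) ne]
  have jQ : φ Y.j ∈ Y.k.range.map φ := mem_map_of_mem φ (by decide +kernel)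
  have cQ : 𝐂 (Y.k.range.map φ) ≤ Y.k.range.map φ := fun x hx =>
    RQ (s.cent_O_le o ⟨mem_cent1.2 (hx _ jQ).symm, centralizer_le RQ hx⟩)
  have i : Iv (φ Y.j) := .mk' (map_ne h.inj (by decide +kernel)) (map_sq (by decide +kernel))
  have cen : ∀ x ∈ Y.k.range.map φ, x ∈ 𝐂 (Y.k.range.map φ) → x = 1 ∨ x = φ Y.j := by
    rintro _ ⟨a, m, rfl⟩ c
    refine ((by decide +kernel : ∀ a ∈ Y.k.range, (∀ b ∈ Y.k.range, b * a = a * b) → a = 1 ∨ a = Y.j) a m fun b m' =>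
      h.inj (by rw [map_mul, map_mul]; exact c _ (mem_map_of_mem φ m'))).imp (fun e => ?_) fun e => ?_
    exacts [by rw [e, map_one], by rw [e]]
  refine out_cn (by rw [← Y.card, Nat.card_congr (MonoidHom.ofInjective h.inj).toEquiv]; exact card_subgroup_dvd_card _)
    (fun t o => sol_all h s o) (XT.out_of_simple (Q := Y.k.range.map φ) (z := φ Y.j)
    ⟨⟨⟨jQ, i, fun _ ⟨a, _, e⟩ => e ▸ (Cj.of' (Y.cj a)).comm, fun _ ⟨a, m, e⟩ => e ▸ ((by decide +kernel :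
      ∀ a ∈ Y.k.range, a * a = 1 ∨ a * a = Y.j) a m).imp map_sq fun k => by rw [← map_mul, k],
      fun x m c _ => cen x m c⟩, cen, fun l => ?_⟩, cQ, nQ⟩ (by rw [card_map h.inj, Y.card_eq]; decide +kernel)
    (by rw [show pCoreOf 2 _ = 𝐎 {2} _ from map_pCore p2 _]; exact RQ))
  rcases i.mem_zpowers.1 (l (mem_map_of_mem φ (show Y.x ∈ Y.k.range by decide +kernel))) with e | e
  exacts [map_ne h.inj (by decide +kernel) e, h.inj.ne (by decide +kernel) e]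

end

section
open CF.Ms.Rb

theorem cn_E {G : Type*} [Group G] [Finite G] [IsSimpleGroup G] {φ : Y →* G} (h : F0 φ) (i : Bool)
    (m : 𝐂₁ (φ Y.j) ≤ 𝐍 ((Y.E i).map φ ⊔ Oc 2 (φ Y.j))) : Cn G := by
  have s := h.toSM
  have O := PG.kill_bal (ns_top (ns s)).O h.syl ((vxE s (i := i)).rk.trans (abE.logn_le_pRank (vxE s).le)) le_rfl
    (fun _ _ => conn_of_normal3 h.syl.pi (vxE s (i := i)) nE) (fun x a v w c => Oc_bal p2
      (by rw [PiElt, v.orderOf]; exact piNat_self p2) (mem_cent1.2 c) (by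
        obtain ⟨g, e⟩ := cj_j h w
        rw [← cj_eq_bot (g := g), cj_PLay p2, cj_cent1, e, play s m]))
    (a := φ Y.j) ⟨map_ne h.inj (by decide), map_sq (by decide +kernel)⟩
  rw [O, sup_bot_eq] at m
  obtain ⟨u, o, c⟩ := cardG s
  have k : ∀ {n l w}, Nat.card G = n → n = 2 ^ l * w → Odd w → 7 = l := fun e f w => two_eq o w (c ▸ e.trans f)
  rcases Cfsg.Agent.S1179.result (ns s) ((Y.E i).map φ) ⟨abE.abel.comm, abE.pow⟩
    (fun e => by simpa [e] using cardE s (i := i)) (fun a ha a1 g l => by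
      obtain ⟨c, e⟩ := cj_j h ⟨a1, sqE a ha⟩
      have w : ∀ g, cj g ((Y.E i).map φ) ≤ 𝐂₁ a → cj c (cj g ((Y.E i).map φ)) = (Y.E i).map φ := fun g l => by
        rw [cj_cj]
        exact wc s m (by rw [← e, ← cj_cent1, ← cj_cj]; exact cj_mono c l)
      have := (w g l).trans (w 1 (by rw [cj_one]; exact le_cent1_iff.2 (abE.abel ha))).symm
      rwa [cj_one, cj_inj] at this) with
    ⟨n, F, _, _, hn, _, ⟨e⟩⟩ | ⟨-, n, -, e⟩ | ⟨F, _, _, q, hq, ev, q4, ⟨e⟩⟩ | ⟨n, n6, n9, ⟨e⟩⟩ | e | e | ⟨-, e⟩ | ⟨-, e⟩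
  · obtain rfl := psl_two hn o ((Nat.card_congr e.toEquiv).symm.trans c)
    have := psl_sq (e (φ Y.e)) (by
      simp only [← map_mul]; rw [show Y.e * Y.e * (Y.e * Y.e) = 1 by decide +kernel, map_one, map_one])
    rw [← map_mul, ← map_mul, map_eq_one_iff _ e.injective, map_eq_one_iff _ h.inj] at this
    exact absurd this (by decide +kernel)
  · have ev : Even (2 ^ (2 * n + 1)) := even_two.pow_of_ne_zero (by omega)
    have := k e (by rw [mul_assoc, ← pow_mul]) ((ev.pow_of_ne_zero two_ne_zero).add_one.mul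
      (odd_sub even_two two_pos (by omega)))
    omega
  · exact absurd ((Nat.card_congr e.toEquiv).symm.trans c) (psu hq ev q4 o)
  · have f := Nat.card_congr e.toEquiv
    have : Nontrivial (Fin n) := Fin.nontrivial_iff_two_le.2 (by omega)
    have g := two_mul_nat_card_alternatingGroup (α := Fin n)
    rw [Nat.card_perm, Nat.card_fin, ← f, c] at g
    interval_cases n <;> simp only [Nat.factorial] at g <;> omega
  · exact .inr (.inr (.inr (.inl e)))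
  · exact .inr (.inr (.inr (.inr (.inl e))))
  · exact absurd (k (l := 10) (w := 239085) e rfl (by decide)) (by decide)
  · exact absurd (k (l := 10) (w := 3935925) e rfl (by decide)) (by decide)

theorem caseA {G : Type u} [Group G] [Finite G] [IsSimpleGroup G] {φ : Y →* G} (h : F0 φ)
    (n2 : No2 (𝐂₁ (φ Y.j))) : Cn G := by
  have s := h.toSM
  have sj := QuotientGroup.mk'_surjective (oddCore (𝐂₁ (φ Y.j)))
  have nO := O_normal {2}ᶜ (𝐂₁ (φ Y.j))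
  have ij : Iv (φ Y.j) := .mk' (map_ne h.inj (by decide)) (map_sq (by decide +kernel))
  rcases bar (s.bar Y.cj) (n2.of_surjective sj) (hz_barz Y.cj) O_bar with ⟨i, n⟩ | ⟨n, hn, π, D⟩
  · refine cn_E h i fun g hg => ?_
    obtain ⟨o, ho, l⟩ := s.frat Y.cj n hg
    exact (mul_mem_cancel_left (le_norm_self _ (mem_sup_right ho))).1
      (zpowers_le.1 (norm_sup (zpowers_le.2 l) (zpowers_le.2 (nO.norm (mul_mem (nO.le ho) hg)))))
  have q := Sol2A.dc_qs D (by omega)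
  have ct := comp_iff.2 ⟨(NormalIn.refl _).subN, qs_top_iff.2 q⟩
  obtain ⟨K, k⟩ : ∃ K, PC K (𝐂₁ (φ Y.j)) := by
    by_contra! c
    have := map_comap_layer p2 (𝐂₁ (φ Y.j))
    rw [PLay_eq_bot_iff.2 c, bot_sup_eq, ← Lay_top, top_le_iff.1 ct.le_Lay, comap_top, map_top_subtype] at this
    exact ij.ne_one (ij.piElt.eq_one ((O_pi _ _).elt (this.le (self_mem_cent1 _))))
  have e := (comp_top_iff.2 k.2.2.1).eq_of_le ct le_top
  have t : ∀ y, ∃ l : K, QuotientGroup.mk' (oddCore _) (inclusion k.1 l) = y := fun y =>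
    let ⟨l, hl, f⟩ := e.ge (mem_top y); ⟨⟨l, hl⟩, f⟩
  have jK : φ Y.j ∈ K := by
    obtain ⟨l, f⟩ := t (barz φ Y.cj Y.j)
    have o := (O_pi _ _).elt (mem_oc.1 (QuotientGroup.eq.1 f.symm))
    have := mem_zpowers_mul_left (y := φ Y.j) (z := (φ Y.j)⁻¹ * l) (by
      rw [mul_inv_cancel_left, mul_assoc, mem_cent1.1 (k.1 l.2), inv_mul_cancel_left]) (PiNat.coprime ij.piElt o)
    rw [mul_inv_cancel_left] at this
    exact zpowers_le.2 l.2 this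
  have c := Sol2A.mq _ G (Nat.lt_succ_self _) (qs_of_isSimpleGroup (ns s)) (ns_top (ns s)).O n _ K
    ⟨by omega, k, Sol2A.tb_of_dc (f := (QuotientGroup.mk' _).comp (inclusion k.1)) (by omega) t
      (fun l f => (O_pi _ _).elt (mem_oc.1 ((QuotientGroup.eq_one_iff _).1 f))) jK ij.sq D⟩
  rcases c.alt with e | ⟨⟨-, ⟨e⟩⟩ | ⟨e, -⟩, -⟩
  · exact (ij.ne_one (eq_one_of_mem_bot ((ns_top (ns s)).eq_bot_of_sol (N := zpowers (φ Y.j))
      ⟨le_top, norm_of_cent (by rw [cent_zpowers, e])⟩ ij.piGrp.nil.sol) (mem_zpowers _))).elim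
  · exact .inr (.inr (.inr (.inr (.inr ⟨e⟩))))
  · omega

end

theorem cn {G : Type u} [Group G] [Finite G] [IsSimpleGroup G]
    (h : ∃ r, (∃ ψ : Ms.W r →* G, W2.SM ψ) ∨ ∃ ψ : Ms.K r →* G, W2.SM ψ) : Cn G := by
  rcases Ms.pre h with k | ⟨φ, f, k | ⟨k, s⟩⟩
  · exact k.imp_right (.imp_right .inl)
  · exact caseA f k
  rcases (Sb.xb f.toSM k (Sb.oc_bot f s)).dich with ⟨-, -, j⟩ | ⟨F, _, _, _, _, _, _, _, j⟩
  · exact main f k s (Sb.hV_of j) (cn_E f)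
  · exact absurd (sol_top.2 s) j.not_sol

end CF.Ts.JM
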