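import Cfsg.Agent.Gh.Z0
import Cfsg.Agent.Gh.X
import Cfsg.Agent.Ts.JM
import Cfsg.Agent.Ts.JL1
import Cfsg.Agent.Small.M22
import Cfsg.Agent.Small.M23

/-! Sylow 2-subgroups of sectional rank at most four: the list up to isomorphism. -/

set_option autoImplicit false
set_option linter.unusedSectionVars false
set_option linter.unusedVariables false

namespace CF.Gh.Xp.JI
open Subgroup Cfsg CF.Loc CF.GH2 CF.Gh.Up
open CF.Ts (Cand cand_r2 cand_abel)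
open scoped commutatorElement MatrixGroups

variable {G : Type} [Group G] [Finite G] [IsSimpleGroup G] {S D E F V : Subgroup G}
  {a a' b b' c d f g k p r s v w x y z : G} {n n' : ℕ}

theorem alt {n : ℕ} (h1 : 7 ≤ n) (h2 : n ≤ 11) (e : Nonempty (G ≃* alternatingGroup (Fin n))) : Cand G :=
  .inr (.inr (.inl ⟨n, h1, h2, e⟩))

theorem o_be (sr : GH2.SR G) (h : Bender.IsBender G) : Cand G := by
  obtain ⟨K, _, _, ⟨n, l, c⟩, ⟨e⟩⟩ | ⟨K, _, _, m, l, c, ⟨e⟩⟩ | ⟨K, _, _, n, l, c, ⟨e⟩⟩ := id h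
  · exact .inr (.inl ⟨K, _, _, .inl ⟨n, l, c, ⟨e⟩⟩⟩)
  · have := (sr.of_surj e.toMonoidHom e.surjective).card_le (H := (BN.Suz.lieD K m c).Z) fun x hx =>
      ((BN.Suz.lieD K m c).mem_Z_iff_sq ((BN.Suz.lieD K m c).Z_le_U hx)).1 hx
    rw [BN.Suz.SzData.card_Z, Nat.card_eq_fintype_card, c] at this
    have h2 := (Nat.pow_le_pow_iff_right (a := 2) (m := 4) one_lt_two).1 this
    obtain rfl : m = 1 := by omega
    exact .inr (.inl ⟨K, _, _, .inr (.inr (.inr (.inr ⟨c, ⟨e⟩⟩)))⟩)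
  · obtain ⟨σ, h1, -, h2⟩ := CF.Geom.exists_conj c
    let _ : StarRing K :=
      { star := σ, star_involutive := h2, star_mul := fun a b => by rw [map_mul, mul_comm]
        star_add := map_add σ }
    obtain ⟨n0, t⟩ := Ree.two_zero (c.trans (pow_mul ..).symm)
    have : CharP K 2 := (CharP.charP_iff_prime_eq_zero Nat.prime_two).2 (by simpa [one_add_one_eq_two] using t 1)
    obtain ⟨φ, i⟩ := Suz.UT.exists_psu c h1
    have : Finite (Suz.UT K) := Nat.finite_of_card_ne_zero (by rw [Suz.UT.card c h1]; positivity)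
    have := ((sr.of_surj e.toMonoidHom e.surjective).of_inj φ i).card_le_mul (H := ⊤) (K := center _) fun x _ =>
      (Suz.UT.mem_center c h1).2 (t x.e)
    rw [card_top, Suz.UT.card c h1, Suz.UT.card_center c h1, pow_succ, Nat.mul_le_mul_right_iff (by positivity),
      ← pow_mul] at this
    have h2 := (Nat.pow_le_pow_iff_right (a := 2) (m := 4) one_lt_two).1 this
    obtain rfl : n = 2 := by omega
    exact .inr (.inl ⟨K, _, _, .inr (.inr (.inl ⟨c, ⟨e⟩⟩))⟩)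

theorem o_g {F : Type*} [Field F] [Fintype F] (o : Odd (Fintype.card F)) (P : Sylow 2 G)
    (h : ∃ Q : Sylow 2 (Lie.chevG2.group F), Nonempty (P ≃* Q)) : Cand G := by
  obtain ⟨Q, h⟩ := h
  rcases Agent.S1742.result o P Q h with ⟨K, _, _, k, e⟩ | e | e
  · exact .inl (.inl ⟨K, _, _, k, .inr (.inr (.inr (.inr (.inr e))))⟩)
  · exact .inl (.inr (.inr (.inl e)))
  · exact .inr (.inr (.inr (.inr (.inl e))))

theorem o_cn (sr : GH2.SR G) (h : ∃ r, (∃ ψ : Ms.W r →* G, W2.SM ψ) ∨ ∃ ψ : Ms.K r →* G, W2.SM ψ) : Cand G := by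
  obtain (⟨K, _, _, o, e⟩ | ⟨K, _, _, q, c, o, e⟩) | k | k | k | k | k := Ts.JM.cn h
  · exact .inl (.inl ⟨K, _, _, o, .inr (.inr (.inl e))⟩)
  · exact .inl (.inr (.inl ⟨K, _, _, q, c, o, .inr (.inl e)⟩))
  · exact alt (by decide) (by decide) k
  · exact alt (by decide) (by decide) k
  · exact .inr (.inr (.inr (.inr (.inr (.inl (Small.M22_of_card k.2))))))
  · exact .inr (.inr (.inr (.inr (.inr (.inr (.inl (Small.M23_of_card k.2)))))))
  · iterate 10 right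
    exact .inl k

theorem o_l5 (sr : GH2.SR G) (h : L5.LU5 G) : Cand G := by
  obtain ⟨K, _, _, o, e⟩ | ⟨K, _, _, q, c, o, e⟩ := h
  · exact .inl (.inl ⟨K, _, _, o, .inr (.inr (.inr (.inl e)))⟩)
  · exact .inl (.inr (.inl ⟨K, _, _, q, c, o, .inr (.inr e)⟩))

theorem o_m (sr : GH2.SR G) (sy : IsSyl 2 S ⊤) (u : UT E F) (ff : f * f = 1) (fE : f ∈ 𝐍(E)) (fF : f ∈ 𝐍(F))
    (fC : f ∉ 𝐂(E ⊓ F)) (e : S = E ⊔ F ⊔ zpowers f) (hx : x ∈ E) (hy : y ∈ F) (c1 : ⁅x, y⁆ ≠ 1)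
    (cn : ⁅x, y⁆ ≠ f * ⁅x, y⁆ * f⁻¹) (h1 : ⁅x, f * y * f⁻¹⁆ = ⁅x, y⁆ * (f * ⁅x, y⁆ * f⁻¹))
    (h2 : ⁅f * x * f⁻¹, y⁆ = ⁅x, y⁆ * (f * ⁅x, y⁆ * f⁻¹)) : Cand G := by
  have hx' := cjm fE hx
  have hy' := cjm fF hy
  have hc := u.cm hx hy
  have hc' := cjm (u.nV (cj_eq_self_iff.1 (by rw [cj_sup, cj_eq_self fE, cj_eq_self fF]))) hc
  have r : ∀ x y : G, x * y = ⁅x, y⁆ * (y * x) := fun x y => by rw [commutatorElement_def]; group
  have r1 := r x y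
  have r2 := h1 ▸ r x (f * y * f⁻¹)
  have r3 := h2 ▸ r (f * x * f⁻¹) y
  have r4 := cj_cm f x y ▸ r (f * x * f⁻¹) (f * y * f⁻¹)
  have ee : f * (y * x) * f⁻¹ = f * y * f⁻¹ * (f * x * f⁻¹) := (conj_mul ..).symm
  have z := fun {c} hc {x} (hx : x ∈ E ⊔ F) => u.vc (x := c) hc x hx
  have lE : E ≤ S := e ▸ le_sup_left.trans le_sup_left
  have lF : F ≤ S := e ▸ le_sup_right.trans le_sup_left
  have fS : f ∈ S := e ▸ mem_zr
  have cS := card_sup u.nE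
  rw [u.cE, u.cF, u.cI] at cS
  have g : ∀ {x y w : G}, x * y = w → ∀ u, x * (y * u) = w * u := fun h u => by rw [← mul_assoc, h]
  have R : ∀ {x y : G}, x * 1 = y * 1 → x = y := fun h => by simpa using h
  obtain ⟨x', ex⟩ : ∃ x', f * x * f⁻¹ = x' := ⟨_, rfl⟩
  obtain ⟨y', ey⟩ : ∃ y', f * y * f⁻¹ = y' := ⟨_, rfl⟩
  obtain ⟨c', ec⟩ : ∃ c', f * ⁅x, y⁆ * f⁻¹ = c' := ⟨_, rfl⟩
  rw [ec] at cn hc' r2 r3 r4
  rw [ex] at hx' r3 r4 ee
  rw [ey] at hy' r2 r4 ee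
  generalize ⁅x, y⁆ = c at *
  have H : y * x * (y * x) = c ∧ y' * x' * (y' * x') = c' ∧ y * x * (y' * x') = y' * x' * (y * x) ∧
      x' * (y * x) = (y * x)⁻¹ * (y' * x' * (y' * x')) * x' ∧ x * (y * x) * x⁻¹ = (y * x)⁻¹ := by
    refine ⟨R ?_, R ?_, R ?_, R ?_, R ?_⟩ <;>
      simp only [mul_inv_rev, u.eE.inv hx, u.eF.inv hy, mul_assoc, one_mul, g r1, g r2, g r3, g r4, g (u.eE _ hx),
        g (u.eE _ hx'), g (u.eF _ hy), g (u.eF _ hy'), g (u.eE _ hc.1), g (u.eE _ hc'.1), g (u.eE.cm hx' hx),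
        g (u.eF.cm hy' hy), g (u.eE.cm hc'.1 hc.1), g (z hc (mem_l hx)), g (z hc (mem_l hx')), g (z hc' (mem_l hx)),
        g (z hc' (mem_l hx')), g (z hc (mem_sup_right hy)), g (z hc (mem_sup_right hy')), g (z hc' (mem_sup_right hy)),
        g (z hc' (mem_sup_right hy'))]
  obtain ⟨k1, k2, k3, k4, k5⟩ := H
  have o : orderOf (y * x) = 2 ^ (0 + 2) := orderOf_eq_prime_pow (by rwa [pow_one, pow_two, k1])
    (by rw [Bp.p4, k1, u.eE _ hc.1])
  refine o_cn sr ⟨0, .inr (sm_of sy (liftK (a := ⟨y * x, mul_mem (lF hy) (lE hx)⟩) (b := ⟨x, lE hx⟩) (x := ⟨f, fS⟩)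
    (by rw [← o, ← orderOf_coe]) (Subtype.ext (u.eE _ hx)) (Subtype.ext ff) (Subtype.ext (by simpa [ee] using k3))
    (Subtype.ext (by simpa only [coe_mul, coe_inv, ee, ex] using k4)) (Subtype.ext k5)
    (Subtype.ext (by simpa [ex] using u.eE.cm hx' hx)) fun i j k => Subtype.ext (by_contra fun n => ?_)) ?_)⟩
  · replace k : (y * x) ^ i * (y' * x') ^ j = 1 := by
      simpa only [coe_mul, coe_inv, coe_pow, coe_one, ee] using congrArg Subtype.val k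
    have m1 := npow_mem_zpowers (y * x) i
    have m2 : (y * x) ^ i ∈ zpowers (y' * x') := by
      rw [eq_inv_of_mul_eq_one_left k]; exact inv_mem (npow_mem_zpowers ..)
    obtain ⟨l, l1, ll⟩ := exists_invol (IsPGroup.of_card (n := 2) ((Nat.card_zpowers _).trans o)) m1 n
    exact cn ((inv_uq (pow_mem m1 l) (k1 ▸ mul_mem (mem_zpowers _) (mem_zpowers _)) ll (u.eE _ hc.1) l1 c1).symm.trans
      (inv_uq (pow_mem m2 l) (k2 ▸ mul_mem (mem_zpowers _) (mem_zpowers _)) ll (u.eE _ hc'.1) l1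
        (ec ▸ mt conj_eq_one_iff.1 c1)))
  · rw [Ms.P0.card_K, e, card_ext (cj_eq_self_iff.1 (by rw [cj_sup, cj_eq_self fE, cj_eq_self fF])) (ff ▸ one_mem _)
      fun j => fC (le_centralizer_iff.1 u.vc j)]
    omega

variable (hG : ¬ IsMulCommutative G)
include hG

theorem o_q (sy : IsSyl 2 S ⊤) (m : Mc a b n) (i : b * a * b⁻¹ = a⁻¹) (q : b * b ≠ 1)
    (c : ⟪a, b⟫ ≤ 𝐂(cj[x] ⟪a, b⟫)) (xz : x * (b * b) = b * b * x) (xx : x * x = 1)
    (e : S = ⟪a, b⟫ ⊔ cj[x] ⟪a, b⟫ ⊔ zpowers x) : Cand G := by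
  have t := qt m i q
  have zz : b * b * (b * b) = 1 := congrArg Subtype.val t.zz
  have h : Wg.Sw (kap x c) x _ _ _ _ := ⟨⟨t.toZq, fun α γ => ⟨fun k => ?_, ?_⟩, xx,
    fun α γ => mul_inv_eq_iff_eq_mul.1 (kap_sw c xx α γ), fun p k => nK m (mc_q m q).1 c (kap_range c ▸ ⟨p, k⟩)⟩,
    t, by rw [Wg.Sy, kap_range, ← e]; exact syl sy⟩
  · have s := Ab2.ns_top hG
    rcases h.main s.index_ne s.O (s.eq_bot_of_sol (BG.O_normal _ _) (BG.O_pi _ _).sol) with k | k | ⟨K, _, _, o, N, j, l, ⟨f⟩⟩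
    · exact alt (by decide) (by decide) k
    · exact alt (by decide) (by decide) k
    exact .inl (.inl ⟨K, _, _, o, .inr <| .inr <| .inr <| .inr <| .inl ⟨topEquiv.symm.trans ((MulEquiv.subgroupCongr ((j.eq_bot_or_eq_top).resolve_left
      fun t => h.w.n1 (mem_bot.1 (t.le (l Wg.Wr.n_mem)))).symm).trans f)⟩⟩)
  · rw [kap_def] at k
    have j : α.1 ∈ zpowers (b * b) := (mc_q m q).2 ▸ mc_cen m (mc_q m q).1 ▸ ⟨α.2,
      by rw [eq_inv_of_mul_eq_one_left k]; exact Subgroup.inv_mem _ (le_centralizer_iff.1 c (conj_mem_cj x γ.2))⟩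
    refine (mem_zp zz j).imp (fun j => ⟨Subtype.ext j, Subtype.ext ?_⟩) fun j => ⟨Subtype.ext j, Subtype.ext ?_⟩
    · simpa [j] using k
    · rw [show α.1 = b * b from j, ← zz, mul_right_inj, mul_inv_eq_iff_eq_mul, ← xz, mul_right_inj] at k
      exact k
  · rintro (⟨rfl, rfl⟩ | ⟨rfl, rfl⟩)
    · exact map_one _
    · exact (congrArg _ (mul_inv_eq_iff_eq_mul.2 xz)).trans zz

theorem o_a (sy : IsSyl 2 S ⊤) (l : E ≤ S) (n : S ≤ 𝐍(E)) (e : El E) (c : Nat.card E = 16) (cS : Nat.card S = 64)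
    (q : ∀ x ∈ S, x * x ∈ E) (vE : v ∈ E) (aS : a ∈ S) (bS : b ∈ S) (k : ⁅⁅v, a⁆, b⁆ ≠ 1) (aa : a * a = 1)
    (bb : b * b = 1) (ba : b * a = a * b) : Cand G := by
  have gen := (d_st e n q c vE aS bS k).2.2
  have cm := @commutatorElement_eq_one_iff_mul_comm G _
  have pE := cm_l (n aS) vE
  have rE := cm_l (n bS) vE
  have zE := cm_l (n bS) pE
  have aE : a ∉ E := fun h => k (by rw [cm.2 (e.cm vE h), commutatorElement_one_left])
  have bE : b ∉ E := fun h => k (cm.2 (e.cm pE h))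
  have abE : a * b ∉ E := fun h => k (by
    rw [← d_d e n q vE aS, ← d_e e pE h (g := a), ← mul_assoc, aa, one_mul])
  have av := d_act e vE (g := a)
  have bv := d_act e vE (g := b)
  have ap := (cm.1 (d_d e n q vE aS)).symm
  have bp := d_act e pE (g := b)
  have ar := d_act e rE (g := a)
  have br := (cm.1 (d_d e n q vE bS)).symm
  have az := (cm.1 (d_d e n q rE aS)).symm
  have bz := (cm.1 (d_d e n q pE bS)).symm
  rw [← d_c e n q vE aS bS] at ar az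
  generalize ⁅⁅v, a⁆, b⁆ = z at *
  generalize ⁅v, a⁆ = p at *
  generalize ⁅v, b⁆ = r at *
  have f : ∀ {x y w : G}, x * y = w → ∀ u, x * (y * u) = w * u := fun h u => by rw [← mul_assoc, h]
  have R : ∀ {x y : G}, x * 1 = y * 1 → x = y := fun h => by simpa using h
  have H : a * r * (a * r) = z ∧ b * (p * r) * (a * r) * (b * (p * r))⁻¹ = (a * r)⁻¹ ∧ b * (p * r) * (b * (p * r)) = z ∧
      v * (a * r) * v⁻¹ = p * (a * r) ∧ v * (b * (p * r)) * v⁻¹ = r * (b * (p * r)) ∧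
      p * (a * r) * (a * r) = a * r * (p * (a * r)) ∧ r * (b * (p * r)) * (a * r) = a * r * (r * (b * (p * r))) ∧
      p * (a * r) * (b * (p * r)) = b * (p * r) * (p * (a * r)) ∧
      r * (b * (p * r)) * (b * (p * r)) = b * (p * r) * (r * (b * (p * r))) := by
    refine ⟨R ?_, R ?_, R ?_, R ?_, R ?_, R ?_, R ?_, R ?_, R ?_⟩ <;>
      simp only [mul_inv_rev, inv_of aa, inv_of bb, e.inv vE, e.inv pE, e.inv rE, e.inv zE, mul_assoc, one_mul, f aa, f bb, f ba,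
        f av, f bv, f ap, f bp, f ar, f br, f az, f bz, f (e v vE), f (e p pE), f (e r rE), f (e z zE), f (e.cm pE vE),
        f (e.cm rE vE), f (e.cm zE vE), f (e.cm rE pE), f (e.cm zE pE), f (e.cm zE rE)]
  obtain ⟨h1, h2, h3, h4, h5, h6, h7, h8, h9⟩ := H
  have iS := mul_mem aS (l rE)
  have jS := mul_mem bS (l (mul_mem pE rE))
  refine o_q hG sy (a := a * r) (b := b * (p * r)) (x := v) (n := 2) ⟨by omega, orderOf_eq_prime_pow
    (by rwa [pow_one, pow_two, h1]) (by rw [Bp.p4, h1, e z zE]), Bp.nb (by rw [h2, inv_mul_cancel, h1]; exact k.symm),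
    .inl h2, .inr ⟨le_rfl, h3.trans (h1.symm.trans (pow_two _).symm)⟩⟩ h2 (h3 ▸ k) (by
      rw [cj_pair, h4, h5]; exact pair_le (cen_pair h6 h7) (cen_pair h8 h9)) (h3 ▸ e.cm vE zE) (e v vE)
    (le_antisymm (fun x hx => ?_) (sup_le (sup_le (pair_le iS jS) (cj_le_of_mem (l vE) (pair_le iS jS)))
      (zpowers_le.2 (l vE))))
  rw [cj_pair, h4, h5]
  generalize hT : ⟪a * r, b * (p * r)⟫ ⊔ ⟪p * (a * r), r * (b * (p * r))⟫ ⊔ zpowers v = T
  have t1 : a * r ∈ T := hT ▸ mem_l (mem_l mA)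
  have t2 : b * (p * r) ∈ T := hT ▸ mem_l (mem_l mB)
  have t3 : p ∈ T := (mul_mem_cancel_right t1).1 (hT ▸ mem_l (mem_sup_right mA))
  have t4 : r ∈ T := (mul_mem_cancel_right t2).1 (hT ▸ mem_l (mem_sup_right mB))
  have t5 := gen T (hT ▸ mem_zr) t3 t4 (h1 ▸ mul_mem t1 t1)
  have t6 := (mul_mem_cancel_right t4).1 t1
  have t7 := (mul_mem_cancel_right (mul_mem t3 t4)).1 t2
  rcases idx4 l q (by omega) aS bS aE bE abE hx with h | h | h | h
  exacts [t5 h, (mul_mem_cancel_right t6).1 (t5 h), (mul_mem_cancel_right t7).1 (t5 h),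
    (mul_mem_cancel_right (mul_mem t6 t7)).1 (t5 h)]

variable (h4 : SectionalPRankLE 2 4 G) (sy : IsSyl 2 S ⊤)
include h4 sy

theorem out_nsc {A : Subgroup G} (l : A ≤ S) (c : A ≤ 𝐂(A)) (k : ∀ a ∈ A, ∀ g, g * a * g⁻¹ ∈ S → g * a * g⁻¹ ∈ A)
    (n : A ≠ ⊥) : Cand G := by
  obtain ⟨P, rfl⟩ := sy.exists_sylow_top
  have sr := GH2.SR.of_sec h4
  rcases Agent.S1169.result P A n (le_centralizer_iff_isMulCommutative.1 c) ⟨l, k⟩ with a | ⟨H, a⟩
  swap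
  · exact o_be sr (Bender.se_simple Bender.part2 a).1
  exact cand_abel hG P a

theorem out_L (u : UT E F) (e : S = E ⊔ F) : Cand G := by
  subst e
  have c := Up.card_sup u.nE
  rw [u.cE, u.cF, u.cI] at c
  have c64 : Nat.card (E ⊔ F :) = 64 := by omega
  obtain ⟨K, _, _, k, ⟨⟨e⟩⟩ | ⟨⟨e⟩⟩⟩ := Ree.AB.tg (q := 4) ⟨Ab2.ab_mk u.eE, Ab2.ab_mk u.eF, syl sy, le_sup_left,
    le_sup_right, fun s hs => (mem_sup_of_le_normalizer u.nE).1 hs, fun s => u.inv,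
    fun l => u.ne (Up.eq_card l (by rw [u.cE, u.cF])), fun l => u.ne (Up.eq_card l (by rw [u.cE, u.cF])).symm⟩
    (by rw [c64, u.cE]) (by decide)
  · exact .inr (.inl ⟨K, _, _, .inr (.inl ⟨k, ⟨e⟩⟩)⟩)
  · obtain ⟨P, hP⟩ := sy.exists_sylow_top
    have h2 := (center (Matrix.symplecticGroup (Fin 2) K)).card_mul_index
    rw [CF.Chev.card_center_Sp (by simp), Nat.card_eq_fintype_card, CF.Geom.card_symplecticGroup, k, index,
      ← Nat.card_congr e.toEquiv] at h2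
    have h3 : Nat.card G = 2 ^ 8 * 3825 := by simpa [Finset.prod_range_succ, k] using h2
    have h5 := P.1.card_mul_index
    have h6 := P.not_dvd_index
    rw [hP, c64, h3] at h5
    rw [hP] at h6
    omega

theorem out_8 (h8 : ∀ E ≤ S, S ≤ 𝐍(E) → El E → Nat.card E ≠ 8) {U : Subgroup G} (l : U ≤ S) (n : S ≤ 𝐍(U)) (e : El U)
    (c : Nat.card U = 4) (k : ∀ u ∈ U, ∀ v ∈ U, u ≠ 1 → v ≠ 1 → IsConj u v) : Cand G := by
  refine (em _).elim (cand_r2 hG) fun h3 => ?_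
  obtain ⟨P, rfl⟩ := sy.exists_sylow_top
  have s := Ab2.ns_top hG
  rcases Agent.S3102.result (fun N _ => s.index_ne N) (fun z h => GW.Iv.ne_one h.1 (s.eq_one (mem_top z) fun x _ => by
      have := Invol.isolated_sup_centralizer h
      rw [show pPrimeCore 2 G = ⊥ from Sig.oddCore_eq.trans s.O, bot_sup_eq] at this
      exact Up.mem_c.1 (this.ge (mem_top x)))) P (fun r => by
      obtain ⟨E, lE, ea, cE⟩ := Ree.exists_big h3 (BG.syl_sylow_top P)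
      exact cE.not_ge ((Nat.card_congr (subgroupOfEquivOfLe lE).toEquiv).ge.trans (r _
        (le_centralizer_iff_isMulCommutative.1 fun x hx y hy => Subtype.ext (ea.abel hx _ hy))
        fun x hx => Subtype.ext (ea.pow _ hx))))
    (fun E nE ea => card_map_of_injective (K := E) P.1.subtype_injective ▸ h8 _ (map_subtype_le _)
      (fun x hx => mem_normalizer_of_conj_mem (by rintro _ ⟨y, hy, rfl⟩; exact ⟨_, nE.conj_mem y hy ⟨x, hx⟩, rfl⟩))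
      (by rintro _ ⟨y, hy, rfl⟩; exact congrArg Subtype.val ((pow_two y).symm.trans (ea.2 y hy))))
    (U.subgroupOf P) (Invol.isKleinFour_iff.2 ⟨(Nat.card_congr (subgroupOfEquivOfLe l).toEquiv).trans c,
      fun x hx => Subtype.ext (e _ hx)⟩) (normal_subgroupOf_of_le_normalizer n)
    (fun u hu v hv u1 v1 => k _ hu _ hv (fun j => u1 (Subtype.ext j)) fun j => v1 (Subtype.ext j)) with ⟨K, _, _, c, h⟩ | h | h
  · exact o_g (Nat.odd_iff.2 (by omega)) P h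
  · obtain ⟨Q, h⟩ := h
    iterate 8 right
    exact (Agent.S1776.result P Q h).imp_right .inl
  · iterate 11 right
    exact .inl (Agent.S3100.result hG P h)

theorem out_G (o : orderOf a = 4) (c : a * (s * a * s⁻¹) = s * a * s⁻¹ * a) (n : s * (a * a) * s⁻¹ ≠ a * a)
    (kk : k * k = 1) (ss : s * s = 1) (ks : k * s = s * k) (ka : k * a * k⁻¹ = a⁻¹) (e : S = closure {a, k, s}) :
    Cand G := by
  obtain ⟨P, rfl⟩ := sy.exists_sylow_top
  have := Fact.mk Nat.prime_three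
  obtain ⟨p, he, ⟨m, om, em⟩, ν, h⟩ := N8.exists_g2 (F := ZMod 3) (by decide)
  have n2 : p.n = 2 := by
    have h1 := p.hn
    have h2 : 2 ^ (p.n + 1) ∣ 2 ^ 3 := ⟨m, em⟩
    have := (Nat.pow_dvd_pow_iff_le_right one_lt_two).1 h2
    omega
  have a4 : a ^ 2 ^ p.n = 1 := by rw [n2, ← pow_orderOf_eq_one a, o]; rfl
  have b4 : (s * a * s⁻¹) ^ 2 ^ p.n = 1 := by rw [conj_pow, a4]; group
  have w : ∀ {x : G}, x ^ 2 ^ p.n = 1 → Invol.zmodPow x p.w = x * x := fun {x} hx => by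
    rw [N8.Par.w, Invol.zh, ← Int.cast_natCast, Invol.zmodPow_intCast hx, n2, zpow_natCast, ← pow_two]; rfl
  obtain ⟨φ, f1, f2, f3⟩ := N8.GT.exists_lift a4 c rfl ss kk ks (by
    rw [he, ka]; simpa using (Invol.zmodPow_intCast a4 (-1)).symm)
  have : Finite (Lie.chevG2.group (ZMod 3)) := Finite.of_injective _ Subtype.val_injective
  have aS : a ∈ P.1 := e.ge (subset_closure (by simp))
  have kS : k ∈ P.1 := e.ge (subset_closure (by simp))
  have sS : s ∈ P.1 := e.ge (subset_closure (by simp))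
  refine o_g (F := ZMod 3) (by decide) P (N8.equiv_of h (φ := φ) (N8.GT.inj_of fun j => n ?_) (le_antisymm ?_ ?_))
  · rw [f1, w a4, w b4, conj_mul] at j
    rw [← eq_inv_of_mul_eq_one_right j |>.symm, Up.inv_of (by rw [← Bp.p4, ← pow_orderOf_eq_one a, o]; rfl)]
  · rintro _ ⟨⟨x, y, i, j⟩, rfl⟩
    have h1 : φ (.A x y) ∈ P.1 := f1 x y ▸ mul_mem (zpowers_le.2 aS (Invol.zmodPow_mem_zpowers ..))
      (zpowers_le.2 (mul_mem (mul_mem sS aS) (inv_mem sS)) (Invol.zmodPow_mem_zpowers ..))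
    have h2 := mul_mem h1 (f2 ▸ kS)
    have h3 := mul_mem h1 (f3 ▸ sS)
    have h4 := mul_mem h2 (f3 ▸ sS)
    simp only [← map_mul] at h2 h3 h4
    cases i <;> cases j
    exacts [h1, by convert h3 using 2; simp, by convert h2 using 2; simp, by convert h4 using 2; simp]
  · rw [e, closure_le]
    rintro _ (rfl | rfl | rfl)
    · exact ⟨.A 1 0, by
        rw [f1, ← Int.cast_one, ← Int.cast_zero, Invol.zmodPow_intCast a4, Invol.zmodPow_intCast b4]; simp⟩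
    exacts [⟨_, f2⟩, ⟨_, f3⟩]

theorem out_Q {n : ℕ} (m : Mc a b n) (n3 : 3 ≤ n) (i : b * a * b⁻¹ = a⁻¹) (q : b * b ≠ 1)
    (c : ⟪a, b⟫ ≤ 𝐂(cj[x] ⟪a, b⟫)) (xz : x * (b * b) = b * b * x) (xx : x * x = 1)
    (e : S = ⟪a, b⟫ ⊔ cj[x] ⟪a, b⟫ ⊔ zpowers x) : Cand G := o_q hG sy m i q c xz xx e

theorem out_A (l : E ≤ S) (n : S ≤ 𝐍(E)) (e : El E) (c : Nat.card E = 16) (cS : Nat.card S = 64)
    (q : ∀ x ∈ S, x * x ∈ E) (vE : v ∈ E) (aS : a ∈ S) (bS : b ∈ S) (k : ⁅⁅v, a⁆, b⁆ ≠ 1) : Cand G := by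
  obtain ⟨u, hu, aa⟩ := (d_st e n q c vE aS bS k).2.1
  obtain ⟨w, hw, bb⟩ := (d_st e n q c vE bS aS (d_c e n q vE aS bS ▸ k)).2.1
  rw [← d_e e vE hu, ← d_e e (cm_l (n (mul_mem aS (l hu))) vE) hw] at k
  have aS := mul_mem aS (l hu)
  have bS := mul_mem bS (l hw)
  generalize a * u = a at *
  generalize b * w = b at *
  have rE := cm_l (n bS) vE
  have br := commutatorElement_eq_one_iff_mul_comm.1 (d_d e n q vE bS)
  have hE := q _ (mul_mem aS bS)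
  have hh := e _ hE
  have f : ∀ {x y : G}, x * x = 1 → y * y = 1 → x * y * (x * y) * (x * y * (x * y)) = 1 →
      x * y * (x * y) * x = x * (x * y * (x * y)) ∧ x * y * (x * y) * y = y * (x * y * (x * y)) := fun {x y} xx yy h => by
    have i : y * x * (y * x) = x * y * (x * y) := by
      rw [← inv_of h]; simp only [mul_inv_rev, inv_of xx, inv_of yy]
    constructor
    · nth_rw 2 [← i]; simp only [mul_assoc]
    · nth_rw 1 [← i]; simp only [mul_assoc]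
  rcases (d_st e n q c vE aS bS k).1 _ hE (f aa bb hh).1 (f aa bb hh).2 with h | h
  · exact o_a hG sy l n e c cS q vE aS bS k aa bb (by rw [← inv_of h, mul_inv_rev, inv_of aa, inv_of bb])
  refine o_a hG sy l n e c cS q vE aS (mul_mem bS (l rE)) (by rwa [d_e e (cm_l (n aS) vE) rE]) aa
    (by rw [mul_assoc, ← mul_assoc _ b, br, mul_assoc, e _ rE, mul_one, bb]) ?_
  have ab : a * b = a * b * (a * b) * (b * a) := by
    rw [mul_assoc, mul_assoc a b (b * a), ← mul_assoc b b, bb, one_mul, aa, mul_one]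
  rw [← br, ← mul_assoc a, d_act e rE (g := a), ← d_c e n q vE aS bS, ← h, mul_assoc, mul_assoc, mul_assoc _ a b]
  nth_rw 3 [ab]
  rw [← mul_assoc (a * b * (a * b)), hh, one_mul]

theorem out_D {n n' : ℕ} (m : Mc a b n) (m' : Mc a' b' n') (n2 : 2 ≤ n) (c : ⟪a, b⟫ ≤ 𝐂(⟪a', b'⟫))
    (i : ⟪a, b⟫ ⊓ ⟪a', b'⟫ = ⊥) (e : S = ⟪a, b⟫ ⊔ ⟪a', b'⟫) : Cand G :=
  (no_d hG (.of_sec h4) sy m m' n2 c i e).elim

theorem out_W {n : ℕ} (m : Mc a b n) (n2 : 2 ≤ n) (c : ⟪a, b⟫ ≤ 𝐂(cj[x] ⟪a, b⟫)) (i : ⟪a, b⟫ ⊓ cj[x] ⟪a, b⟫ = ⊥)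
    (xx : x * x ∈ ⟪a, b⟫ ⊔ cj[x] ⟪a, b⟫) (e : S = ⟪a, b⟫ ⊔ cj[x] ⟪a, b⟫ ⊔ zpowers x) : Cand G := by
  have sr := GH2.SR.of_sec h4
  obtain ⟨b, eb, m, t⟩ := mc_ty m
  rw [← eb] at c i xx e
  obtain ⟨d, hd, xx⟩ := ex_inv c i xx
  have ed : cj[x] ⟪a, b⟫ = cj[d * x] ⟪a, b⟫ := by rw [cj_mul, cj_eq_self (n_of_c c hd)]
  replace e : S = ⟪a, b⟫ ⊔ cj[x] ⟪a, b⟫ ⊔ zpowers (d * x) := e.trans (le_antisymm
    (sup_le le_sup_left (zpowers_le.2 ((mul_mem_cancel_left (mem_l (mem_l hd))).1 mem_zr)))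
    (sup_le le_sup_left (zpowers_le.2 (mul_mem (mem_l (mem_l hd)) mem_zr))))
  rw [ed] at c i e
  generalize d * x = x at *
  obtain ⟨t1, t2⟩ | ⟨n3, t1, t2⟩ | ⟨t1, t2⟩ := t
  · obtain ⟨r, rfl⟩ := Nat.exists_eq_add_of_le' n2
    have l : ⟪a, b⟫ ≤ S := e ▸ le_sup_left.trans le_sup_left
    refine o_cn sr ⟨r, .inl (sm_of sy (liftW (a := ⟨a, l mA⟩) (b := ⟨b, l mB⟩) (x := ⟨x, e ▸ mem_zr⟩)
      (by rw [← m.ord, ← orderOf_coe]) (Subtype.ext t2) (Subtype.ext t1) (Subtype.ext xx)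
      (Subtype.ext (c mA _ (conj_mem_cj x mA)).symm) (Subtype.ext (c mA _ (conj_mem_cj x mB)))
      (Subtype.ext (c mB _ (conj_mem_cj x mB))) fun j k h => Subtype.ext (p_one i (pow_mem mA j)
        (pow_mem (conj_mem_cj x mA) k) (congrArg Subtype.val h)).1) ?_)⟩
    rw [Ms.P0.card_W, e, card_w c i xx (nK m n2 c), m.card]
    ring
  · have w := ws sy c i xx e
    obtain ⟨z, k⟩ := L5.exists_cf (ts m n3 t1 t2) w (w.perf (ts m n3 t1 t2))
    exact o_l5 sr k.cg.ca'.lu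
  · exact (no_w hG sr sy m t1 t2 c i xx e).elim

theorem out_M {f : G} (u : UT E F) (ff : f * f = 1) (fE : f ∈ 𝐍(E)) (fF : f ∈ 𝐍(F)) (fC : f ∉ 𝐂(E ⊓ F))
    (e : S = E ⊔ F ⊔ zpowers f) : Cand G := by
  obtain ⟨x, hx, kx⟩ := ut_mv u ff fE fF fC
  obtain ⟨y, hy, ky⟩ := ut_mv u.symm ff fF fE (inf_comm E F ▸ fC)
  have b : ∀ w, f * (f * w * f⁻¹) * f⁻¹ = w := fun w => by
    rw [show f * (f * w * f⁻¹) * f⁻¹ = f * f * w * (f * f)⁻¹ by group, ff]; group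
  have nV := u.nV (cj_eq_self_iff.1 (by rw [cj_sup, cj_eq_self fE, cj_eq_self fF]) : f ∈ 𝐍(E ⊔ F))
  have eV : El (E ⊓ F) := u.eE.mono inf_le_left
  have xF : x ∉ F := fun h => kx (mul_mem h (cjm fF h))
  have nd : ∀ {x y}, x ∈ E → x ∉ F → y ∈ F → y ∉ E → ⁅x, y⁆ ≠ 1 := fun a b c d k =>
    u.nd _ a b _ c d (commutatorElement_eq_one_iff_mul_comm.1 k)
  have ml : ∀ {x x' y}, x ∈ E → x' ∈ E → y ∈ F → ⁅x * x', y⁆ = ⁅x, y⁆ * ⁅x', y⁆ := d_mul u.eE u.nE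
  have mr : ∀ {x y y'}, x ∈ E → y ∈ F → y' ∈ F → ⁅x, y * y'⁆ = ⁅x, y⁆ * ⁅x, y'⁆ := fun hx hy hy' => by
    rw [← commutatorElement_inv, d_mul u.eF u.nF hy hy' hx, mul_inv_rev, commutatorElement_inv, commutatorElement_inv,
      eV.cm (u.cm hx hy) (u.cm hx hy')]
  have hx' := cjm fE hx
  have key : ∀ y ∈ F, y * (f * y * f⁻¹) ∉ E → ⁅x, y⁆ ≠ f * ⁅x, y⁆ * f⁻¹ → Cand G := fun y hy ky cn => by
    have yE : y ∉ E := fun h => ky (mul_mem h (cjm fE h))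
    have hy' := cjm fF hy
    have hc := u.cm hx hy
    have c1 := nd hx xF hy yE
    have e2 : ⁅f * x * f⁻¹, y⁆ = f * ⁅x, f * y * f⁻¹⁆ * f⁻¹ := by rw [cj_cm, b]
    have : ⁅x, f * y * f⁻¹⁆ = ⁅x, y⁆ * (f * ⁅x, y⁆ * f⁻¹) := by
      rcases four_el eV u.cI hc (cjm nV hc) c1 (mt conj_eq_one_iff.1 c1) cn (u.cm hx hy') with h | h | h | h
      · exact (nd hx xF hy' (mt (cjm_iff fE).1 yE) h).elim
      · exact (nd hx xF (mul_mem hy hy') ky (by rw [mr hx hy hy', h, eV _ hc])).elim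
      · exact (nd (mul_mem hx hx') kx hy yE (by rw [ml hx hx' hy, e2, h, b, eV _ hc])).elim
      · exact h
    exact o_m (.of_sec h4) sy u ff fE fF fC e hx hy c1 cn this (by
      rw [e2, this, ← conj_mul, b, eV.cm hc (cjm nV hc)])
  have hy' := cjm fF hy
  refine (em _).elim (fun h => key _ hy' (by rwa [b, ← u.eF.cm hy hy']) fun h' => ?_) (key y hy ky)
  refine nd (mul_mem hx hx') kx (mul_mem hy hy') ky ?_
  rw [ml hx hx' (mul_mem hy hy'), mr hx hy hy', mr hx' hy hy', ← cj_cm, ← h]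
  nth_rw 3 [← b y]
  rw [← cj_cm, ← h', eV.cm (u.cm hx hy') (u.cm hx hy), eV _ (mul_mem (u.cm hx hy) (u.cm hx hy'))]

end CF.Gh.Xp.JI

namespace CF.Gh
open Subgroup Cfsg CF.Loc CF.GH2 Bp
open CF.Ts (Cand cand_r2)
open scoped commutatorElement

theorem _root_.CF.Ts.cand_sr4 {G : Type} [Group G] [Finite G] [IsSimpleGroup G] (hG : ¬ IsMulCommutative G) (h4 : SectionalPRankLE 2 4 G) : Cand G := by
  by_contra no
  obtain ⟨S, sy⟩ := exists_isSyl 2 (⊤ : Subgroup G)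
  refine Gh.St.false (S := S) ⟨h4, sy, ?_, ?_, fun A l c k => by_contra fun n => no (Xp.JI.out_nsc hG h4 sy l c k n),
    fun h8 U l n e c k => no (Xp.JI.out_8 hG h4 sy h8 l n e c k),
    fun a b x n m n2 c i xx e => no (Xp.JI.out_W hG h4 sy m n2 c i xx e),
    fun a b x n m n3 i q c xz xx e => no (Xp.JI.out_Q hG h4 sy m n3 i q c xz xx e),
    fun a b n a' b' n' m m' n2 c i e => no (Xp.JI.out_D hG h4 sy m m' n2 c i e),
    fun E l n e c cS q v vE a aS b bS => by_contra fun k => no (Xp.JI.out_A hG h4 sy l n e c cS q vE aS bS k),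
    fun a k s o c n kk ss ks ka e => no (Xp.JI.out_G hG h4 sy o c n kk ss ks ka e),
    fun E F u e => no (Xp.JI.out_L hG h4 sy u e), fun E F f u ff fE fF fC e => no (Xp.JI.out_M hG h4 sy u ff fE fF fC e)⟩
  · refine (IsSimpleGroup.eq_bot_or_eq_top_of_normal _ inferInstance).resolve_left fun e => hG ⟨⟨fun a b => ?_⟩⟩
    exact commutatorElement_eq_one_iff_mul_comm.1 (mem_bot.1 (e ▸ commutator_mem_commutator (mem_top a) (mem_top b)))
  · obtain ⟨A, -, e, c⟩ : ∃ A : Subgroup G, IsMulCommutative A ∧ (∀ a ∈ A, a ^ 2 = 1) ∧ 2 ^ 2 < Nat.card A := by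
      by_contra! j
      exact no (cand_r2 hG j)
    have p : IsPGroup 2 A := isPGroup_iff_forall.2 fun x hx => ⟨1, e x hx⟩
    obtain ⟨n, cA⟩ := p.exists_card_eq
    obtain ⟨E, cE⟩ := Sylow.exists_subgroup_card_pow_prime (G := A) 2 (n := 3)
      (cA ▸ pow_dvd_pow 2 ((Nat.pow_lt_pow_iff_right one_lt_two).1 (cA ▸ c)))
    obtain ⟨g, -, l⟩ := sy.exists_cj_le (p.to_le (map_subtype_le E)) le_top
    refine ⟨_, l, fun x hx => ?_, by rw [card_cj, card_map_of_injective A.subtype_injective, cE]; rfl⟩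
    have := e _ (map_subtype_le E (mem_cj.1 hx))
    rwa [pow_two, show g⁻¹ * x * g * (g⁻¹ * x * g) = g⁻¹ * (x * x) * g⁻¹⁻¹ by group, conj_eq_one_iff] at this

end CF.Gh
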