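import Cfsg.Agent.BG2.P3a

/-! An element of prime order without fixed points on a minimal normal subgroup. -/

set_option autoImplicit false
set_option linter.unusedSectionVars false

namespace CF.Ts.Od
open Subgroup CF.BG

variable {G : Type*} [Group G] [Finite G] {A H K R : Subgroup G} {r : ℕ}

theorem O_qt_cent_min (hK : K ⊴ H) (hA : MinN A H) (a : PiGrp {r} A) : 𝐎 {r} (qt (K ⊓ 𝐂 A) K) = ⊥ := by
  have hC : K ⊓ 𝐂 A ⊴ H := ⟨inf_le_left.trans hK.le, norm_inf_cent hK.norm hA.norm⟩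
  have hCK : K ⊓ 𝐂 A ⊴ K := hC.of_le inf_le_left hK.le
  have nO : qp (K ⊓ 𝐂 A) (𝐎 {r} (qt (K ⊓ 𝐂 A) K)) ⊴ H := ((hK.qt _).O {r}).qp_of_qt hC
  have lO : qp (K ⊓ 𝐂 A) (𝐎 {r} (qt (K ⊓ 𝐂 A) K)) ≤ K := qp_le_of_le_qt hCK (O_le _ _)
  obtain ⟨S, hS⟩ := exists_syl r (qp (K ⊓ 𝐂 A) (𝐎 {r} (qt (K ⊓ 𝐂 A) K)))
  have e := (hS.qt (qp_le_norm _)).eq_of_pi (by rw [qt_qp]; exact O_pi _ _)
  have l := (qt_le_qt_iff (qp_le_norm _) (hS.le.trans (qp_le_norm _))).1 e.ge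
  have ne := hS.pi.inf_cent_ne_bot a ((hS.le.trans nO.le).trans hA.norm) hA.ne_bot
  have k : A ≤ 𝐂 (qp (K ⊓ 𝐂 A) (𝐎 {r} (qt (K ⊓ 𝐂 A) K))) :=
    (hA.inf_eq_bot_or_le (norm_cent nO.norm)).resolve_left fun z => ne (eq_bot_mono z (le_inf inf_le_left
      ((le_cent_sup (inf_le_left.trans (cent_symm inf_le_right)) inf_le_right).trans (cent_anti l))))
  exact qp_eq_self.1 (le_antisymm (le_inf lO (cent_symm k)) (le_qp _))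

/-- BG 3.4 for a minimal normal subgroup -/
theorem comm_le_cent_min (hK : K ⊴ H) (s : Sol K) (o : Odd (♯K)) (hA : MinN A H) (a : Abelem r A) (hR : R ≤ H)
    (p : (♯R).Prime) (c : (♯R).Coprime (♯K)) (e : A ⊓ 𝐂 R = ⊥) : ⁅K, R⁆ ≤ 𝐂 A := by
  have hC : K ⊓ 𝐂 A ⊴ H := ⟨inf_le_left.trans hK.le, norm_inf_cent hK.norm hA.norm⟩
  have hCK : K ⊓ 𝐂 A ⊴ K := hC.of_le inf_le_left hK.le
  have nF : qp (K ⊓ 𝐂 A) (𝐅 (qt (K ⊓ 𝐂 A) K)) ⊴ H := ((hK.qt _).F).qp_of_qt hC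
  have lF : qp (K ⊓ 𝐂 A) (𝐅 (qt (K ⊓ 𝐂 A) K)) ≤ K := qp_le_of_le_qt hCK (F_le _)
  have pF : PiGrp {r}ᶜ (𝐅 (qt (K ⊓ 𝐂 A) K)) :=
    Hall.pi'_of_eq_bot (O_qt_cent_min hK hA a.pi ▸ syl_O_F r (qt (K ⊓ 𝐂 A) K))
  obtain ⟨E, hE, nE⟩ := exists_hall_inv (hR.trans nF.norm) (coprime_mono c le_rfl lF) (s.mono lF) {r}ᶜ
  have lE := hE.le.trans lF
  have q := (hE.qt (qp_le_norm _)).eq_of_pi (by rw [qt_qp]; exact pF)
  rw [qt_qp] at q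
  have k := BG2.comm_le_cent_of_odd p nE (coprime_mono c le_rfl lE) (odd_mono o lE) a ((lE.trans hK.le).trans hA.norm)
    (hR.trans hA.norm) hE.pi e
  have k2 : qt (K ⊓ 𝐂 A) R ≤ 𝐂 (𝐅 (qt (K ⊓ 𝐂 A) K)) := by
    rw [← q, qt_cent_iff (hR.trans hC.norm) (lE.trans hCK.norm), commutator_comm]
    exact le_inf ((comm_le_left nE).trans lE) k
  have k3 := (s.qt _).cent_of_cent_F (qt_norm _ (hR.trans hK.norm)) (coprime_qt _ c) k2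
  rw [qt_cent_iff (hR.trans hC.norm) hCK.norm, commutator_comm] at k3
  exact k3.trans inf_le_right

end CF.Ts.Od
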